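import Cfsg.Agent.H0.QSuz.D
set_option maxRecDepth 100000
set_option Elab.async false
namespace H0.QSuz
open H0 BN 
theorem defs_ok : DefsOK R.p defs 16 := defsOK_of_chk c22
universe u
variable {G : Type u} [Group G] [Finite G] (m0 : Model G) (h0 : m0.R = H0.MSuz.R)
noncomputable def m : Model G := m0.ext (lg := nat_lit 11) (N := nat_lit 2048) (l := H0.MSuz.nl) h0 nl nl_ok 16 rfl defs defs_ok (by decide +kernel)
theorem mR : (m m0 h0).R = R := rfl
variable (hb : m0.pst [426, 2, 1, 0] = ⊥) (hc : Nat.card G = 448345497600)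
include h0 hb hc
theorem base : (m m0 h0).pst [426, 2, 1, 0] = ⊥ := hb
omit hb hc in
theorem ch2_ok : (m m0 h0).ChainOK ch2 [] := ((m m0 h0).chain_cons [0, 1, 2, 3, 4, 5, 6, 8, 7, 0] (Model.via _ (mR m0 h0) (fun R => Model.fixP R [] [[16], [17], [18], [19], [20], [23], [26], [27], [28]]) c2) (Model.via _ (mR m0 h0) (fun R => Model.growP R [[16], [17], [18], [19], [20], [23], [26], [27], [28]] [0, 1, 2, 3, 4, 5, 6, 8, 7, 0] 0 512) c3) ((m m0 h0).chain_cons [0, 1, 2, 3] (Model.via _ (mR m0 h0) (fun R => Model.fixP R [0] [[16, 17, 18, 19, 25], [20, 23, 24, 25, 26], [21, 26], [22, 25, 28]]) c0) (Model.via _ (mR m0 h0) (fun R => Model.growP R [[16, 17, 18, 19, 25], [20, 23, 24, 25, 26], [21, 26], [22, 25, 28]] [0, 1, 2, 3] 1 16) c1) ((m m0 h0).chain_nil _)))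
theorem pb2 : PBound G (2 ^ (1 + 1)) :=
  (m m0 h0).pbound C2 16 (k := 54729675) (K := 3) (e := 2) hc (lt_step_all (a := 0) (k := 127) (lt_zero_all _) ((m m0 h0).rules_of (base m0 h0 hb hc) (Model.via _ (mR m0 h0) (fun R => rulesB R [426, 2, 1, 0] (fun i => sh 16 (C2.L i)) (fun i => sh 16 (C2.R i)) 0 127) c4))) (ch2_ok m0 h0) (by decide +kernel) tests2 (all_take_done (all_take_step (all_take_zero _ tests2) (allL_spec c5)) (by decide +kernel))
    av2 FS2 YS2 rows2 (all_take_done (all_take_step (all_take_zero _ rows2) (allL_spec c6)) (by decide +kernel)) c7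
omit hb hc in
theorem ch3_ok : (m m0 h0).ChainOK ch3 [] := ((m m0 h0).chain_cons [0, 1, 2, 4, 0, 3, 1, 2, 0] (Model.via _ (mR m0 h0) (fun R => Model.fixP R [] [[32], [33], [34], [35], [36]]) c10) (Model.via _ (mR m0 h0) (fun R => Model.growP R [[32], [33], [34], [35], [36]] [0, 1, 2, 4, 0, 3, 1, 2, 0] 0 81) c11) ((m m0 h0).chain_cons [0, 1, 2, 0, 1, 2] (Model.via _ (mR m0 h0) (fun R => Model.fixP R [0] [[32, 34, 35, 38, 38], [33, 34, 34, 35, 36, 38, 38], [37, 38, 38]]) c8) (Model.via _ (mR m0 h0) (fun R => Model.growP R [[32, 34, 35, 38, 38], [33, 34, 34, 35, 36, 38, 38], [37, 38, 38]] [0, 1, 2, 0, 1, 2] 1 27) c9) ((m m0 h0).chain_nil _)))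
theorem pb3 : PBound G (3 ^ (1 + 1)) :=
  (m m0 h0).pbound C3 32 (k := 205004800) (K := 3) (e := 2) hc (lt_step_all (a := 0) (k := 42) (lt_zero_all _) ((m m0 h0).rules_of (base m0 h0 hb hc) (Model.via _ (mR m0 h0) (fun R => rulesB R [426, 2, 1, 0] (fun i => sh 32 (C3.L i)) (fun i => sh 32 (C3.R i)) 0 42) c12))) (ch3_ok m0 h0) (by decide +kernel) tests3 (all_take_done (all_take_step (all_take_zero _ tests3) (allL_spec c13)) (by decide +kernel))
    av3 FS3 YS3 rows3 (all_take_done (all_take_step (all_take_zero _ rows3) (allL_spec c14)) (by decide +kernel)) c15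
omit hb hc in
theorem ch5_ok : (m m0 h0).ChainOK ch5 [] := ((m m0 h0).chain_cons [0, 1, 0, 1, 0, 1, 0, 1] (Model.via _ (mR m0 h0) (fun R => Model.fixP R [] [[41], [42]]) c16) (Model.via _ (mR m0 h0) (fun R => Model.growP R [[41], [42]] [0, 1, 0, 1, 0, 1, 0, 1] 1 25) c17) ((m m0 h0).chain_nil _))
theorem pb5 : PBound G (5 ^ (0 + 1)) :=
  (m m0 h0).pbound C5 41 (k := 17933819904) (K := 2) (e := 1) hc (lt_step_all (a := 0) (k := 5) (lt_zero_all _) ((m m0 h0).rules_of (base m0 h0 hb hc) (Model.via _ (mR m0 h0) (fun R => rulesB R [426, 2, 1, 0] (fun i => sh 41 (C5.L i)) (fun i => sh 41 (C5.R i)) 0 5) c18))) (ch5_ok m0 h0) (by decide +kernel) tests5 (all_take_done (all_take_step (all_take_zero _ tests5) (allL_spec c19)) (by decide +kernel))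
    av5 FS5 YS5 rows5 (all_take_done (all_take_step (all_take_zero _ rows5) (allL_spec c20)) (by decide +kernel)) c21
theorem bound (Γ : Type u) [Group Γ] [Finite Γ] (σ : Γ →* G) (hσ : Cfsg.IsStemExtension σ) : Nat.card σ.ker ∣ 6 :=
  card_ker_dvd (M := 13) (k := 13) (L := [2, 3, 5]) hc (by decide +kernel) (ex_bound (pb2 m0 h0 hb hc) (by decide) (ex_bound (pb3 m0 h0 hb hc) (by decide) (ex_bound (pb5 m0 h0 hb hc) (by decide) ex_bound_nil))) Γ σ hσ
end H0.QSuz
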